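import Groth.Agent.KSix54.SmoothTor.Stalk
import Groth.Agent.KSix54.Spread.RelStalk
import Groth.Agent.KSix54.FlatAmp
import Groth.Agent.KSix54.AmpLocal
import Groth.Agent.KFlatLib.Scheme.ClosedPush

/-! Tor amplitude of a direct image on a smooth scheme. -/

set_option linter.style.haveILetI false

universe u

open CategoryTheory CategoryTheory.Limits AlgebraicGeometry
open Groth.Agent.KFlatLib

attribute [local instance] HasDerivedCategory.standard

namespace Groth.Agent.KSix54.SmoothTor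

open Groth.Agent.H9Misc

variable {X Z Y : Scheme.{u}} (i : X ⟶ Z) [IsClosedImmersion i] (g : Z ⟶ Y)

/-- Direct image of complexes. -/
noncomputable abbrev pushCx (F : CochainComplex X.Modules ℤ) : CochainComplex Z.Modules ℤ :=
  ((Scheme.Modules.pushforward i).mapHomologicalComplex (ComplexShape.up ℤ)).obj F

lemma torAmplitudeAt_push_off {F : CochainComplex X.Modules ℤ} {a b : ℤ} {z : Z}
    (hz : z ∉ Set.range i.base) : DerSch.HasTorAmplitudeAt (𝟙 Z) a b (pushCx i F) z := by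
  have h0 : ∀ k, IsZero (((DerSch.stalkCxOver (𝟙 Z) z).obj (pushCx i F)).X k) := fun k => by
    haveI := AddCommGrpCat.subsingleton_of_isZero (isZero_stalk_push i z hz (F.X k))
    haveI : Subsingleton (((DerSch.stalkCxOver (𝟙 Z) z).obj (pushCx i F)).X k : Type u) :=
      inferInstanceAs (Subsingleton ((Scheme.Modules.pushforward i ⋙ stalkAb (X := Z) z).obj (F.X k) : Type u))
    exact ModuleCat.isZero_of_subsingleton _
  exact ⟨(DerSch.stalkCxOver (𝟙 Z) z).obj (pushCx i F), fun k _ => h0 k,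
    fun k => by
      haveI := ModuleCat.subsingleton_of_isZero (h0 k)
      infer_instance,
    ⟨Iso.refl _⟩⟩

/-- The amplitude of a direct image at a point, in a chart. -/
theorem torAmplitudeAt_push_drop [Flat g] (n : ℕ) {U : Y.Opens} (hU : IsAffineOpen U)
    {V : Z.Opens} (hV : IsAffineOpen V) (e : V ≤ g ⁻¹ᵁ U)
    (hs : RingHom.IsStandardSmoothOfRelativeDimension n (g.appLE U V e).hom)
    {F : CochainComplex X.Modules ℤ} {a b : ℤ} (z : Z) (hz : z ∈ V)
    (hF : ∀ x, i.base x = z → DerSch.HasTorAmplitudeAt (i ≫ g) a b F x) :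
    DerSch.HasTorAmplitudeAt (𝟙 Z) (a - n) b (pushCx i F) z := by
  by_cases hz' : z ∈ Set.range i.base
  · obtain ⟨x, rfl⟩ := hz'
    exact torAmplitudeAt_id_drop_chart g n hU hV e hs _ hz
      ((Spread.torAmplitudeAt_push_iff i g F x).2 (hF x rfl))
  · exact torAmplitudeAt_push_off i hz'

/-- A uniform bound on the relative dimension gives a uniform drop. -/
theorem torAmplitude_push_of_bound (g : Z ⟶ Y) [Smooth g] (d : ℕ)
    (hd : ∀ z : Z, ∃ (n : ℕ) (V : Z.Opens), n ≤ d ∧ z ∈ V ∧ SmoothOfRelativeDimension n (V.ι ≫ g))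
    {F : CochainComplex X.Modules ℤ} {a b : ℤ} (hF : DerSch.HasTorAmplitude (i ≫ g) a b F) :
    DerSch.HasTorAmplitude (𝟙 Z) (a - d) b (pushCx i F) := fun z => by
  by_cases hz' : z ∈ Set.range i.base
  · obtain ⟨x, rfl⟩ := hz'
    obtain ⟨n, V, hn, hzV, hs⟩ := hd (i.base x)
    have h1 : DerSch.HasTorAmplitudeAt g a b (pushCx i F) (i.base x) :=
      (Spread.torAmplitudeAt_push_iff i g F x).2 (hF x)
    haveI := hs
    have h2 := torAmplitudeAt_id_drop (V.ι ≫ g) n ⟨i.base x, hzV⟩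
      ((torAmplitudeAt_restrict_iff V.ι g a b (pushCx i F) ⟨i.base x, hzV⟩).2 h1)
    have h3 := torAmplitudeAt_comp_flat (g := V.ι) h2
    exact DRingTor.mono (by omega) le_rfl
      ((torAmplitudeAt_restrict_iff V.ι (𝟙 Z) (a - n) b (pushCx i F) ⟨i.base x, hzV⟩).1
        (torAmplitudeAt_congr_hom (by simp) h3))
  · exact torAmplitudeAt_push_off i hz'

/-- Locally bounded relative amplitude gives locally bounded amplitude of the direct image. -/
theorem exists_nhd_torAmplitude_push (g : Z ⟶ Y) [Smooth g] {F : CochainComplex X.Modules ℤ}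
    (hF : DerSch.LocFiniteTorAmplitude (i ≫ g) F) (z : Z) :
    ∃ (W : Z.Opens) (a b : ℤ), z ∈ W ∧ a ≤ b ∧
      ∀ z' : Z, z' ∈ W → DerSch.HasTorAmplitudeAt (𝟙 Z) a b (pushCx i F) z' := by
  by_cases hz' : z ∈ Set.range i.base
  · obtain ⟨x, rfl⟩ := hz'
    obtain ⟨U, hU, V, hV, hz, e, n, hs⟩ := exists_chart g (i.base x)
    obtain ⟨X₀, a, b, hx, hamp⟩ := hF x
    obtain ⟨W, hW, hWX⟩ : ∃ W : Z.Opens, i.base x ∈ W ∧ i ⁻¹ᵁ W ≤ X₀ := by
      obtain ⟨s, hs', he⟩ := i.isClosedEmbedding.isInducing.isOpen_iff.1 X₀.2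
      exact ⟨⟨s, hs'⟩, (Set.ext_iff.1 he x).2 hx, fun y hy => (Set.ext_iff.1 he y).1 hy⟩
    refine ⟨W ⊓ V, min (a - n) b, b, ⟨hW, hz⟩, min_le_right _ _, fun z' hz' => ?_⟩
    exact DRingTor.mono (min_le_left _ _) le_rfl
      (torAmplitudeAt_push_drop i g n hU hV e hs z' hz'.2
        fun x' hx' => hamp x' (hWX (show i.base x' ∈ W from hx' ▸ hz'.1)))
  · let W : Z.Opens := ⟨(Set.range i.base)ᶜ, i.isClosedEmbedding.isClosed_range.isOpen_compl⟩
    exact ⟨W, 0, 0, hz', le_rfl, fun z' h => torAmplitudeAt_push_off i h⟩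

end Groth.Agent.KSix54.SmoothTor
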