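import Groth.Agent.KSix54.SmoothTor.Drop
import Groth.Agent.H9Misc.DRingTorRestrict
import Groth.Agent.H9Misc.DRingTorDescent
import Mathlib.RingTheory.Etale.Weakly
import Mathlib.RingTheory.RingHom.StandardSmooth
import Mathlib.RingTheory.TensorProduct.MvPolynomial
import Mathlib.Algebra.Category.Ring.Constructions
import Mathlib.Algebra.MvPolynomial.Equiv

/-! The diagonal of a standard smooth algebra of relative dimension `n` has tor dimension `≤ n`. -/

set_option linter.style.haveILetI false

universe u

open CategoryTheory CategoryTheory.Limits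
open scoped TensorProduct

attribute [local instance] HasDerivedCategory.standard

namespace Groth.Agent.KSix54.SmoothTor

open Groth.Agent.H9Misc

variable {A C D : Type u} [CommRing A] [CommRing C] [CommRing D]

/-- The tor dimension of a ring map. -/
def TD (n : ℕ) (f : A →+* C) : Prop :=
  DRing.HasTorDimLE A n ((ModuleCat.restrictScalars f).obj (ModuleCat.of C C))

lemma td_of_flat {f : A →+* C} (hf : f.Flat) : TD 0 f := by
  haveI : Module.Flat A ((ModuleCat.restrictScalars f).obj (ModuleCat.of C C)) := hf
  exact (DRingTor.torDimLE_zero_iff _).2 inferInstance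

lemma td_iff (n : ℕ) (f : A →+* C) : TD n f ↔
    DRing.HasTorAmplitudeIn A (-(n : ℤ)) 0 (Dual.inD A ((ModuleCat.restrictScalars f).obj (ModuleCat.of C C))) :=
  DRingTor.torDimLE_iff n _

theorem td_comp {p q : ℕ} {f : A →+* C} {g : C →+* D} (hf : TD p f) (hg : TD q g) :
    TD (p + q) (g.comp f) := by
  letI : Algebra A C := f.toAlgebra
  rw [td_iff] at hg ⊢
  have hC : DRing.HasTorAmplitudeIn A (-(p : ℤ)) 0 (Dual.inD A C) :=
    DRingTor.inD_congr (DRingTorDescent.resBIso C) ((td_iff p f).1 hf)
  have h := DRingTor.hasTorAmplitudeIn_restrictScalars p hC _ _ _ hg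
  refine DRingTor.mono (by push_cast; omega) le_rfl (DRingTor.of_iso ?_ h)
  exact ((ModuleCat.restrictScalars f).mapDerivedCategorySingleFunctor 0).app _ ≪≫
    (DerivedCategory.singleFunctor (ModuleCat.{u} A) 0).mapIso
      ((ModuleCat.restrictScalarsComp'App f g _ rfl (ModuleCat.of D D)).symm)

lemma td_comp_bijective {n : ℕ} {f : A →+* C} {g : C →+* D} (hf : TD n f)
    (hg : Function.Bijective g) : TD n (g.comp f) :=
  td_comp hf (td_of_flat (RingHom.Flat.of_bijective hg))

lemma td_bijective_comp {n : ℕ} {f : A →+* C} {g : C →+* D} (hf : Function.Bijective f)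
    (hg : TD n g) : TD n (g.comp f) := by
  simpa using td_comp (td_of_flat (RingHom.Flat.of_bijective hf)) hg

/-- Flat base change of tor dimension. -/
theorem td_baseChange (A' : Type u) [CommRing A'] [Algebra A A'] [Module.Flat A A'] [Algebra A C]
    {n : ℕ} (h : TD n (algebraMap A C)) :
    TD n (Algebra.TensorProduct.includeLeftRingHom : A' →+* A' ⊗[A] C) := by
  obtain ⟨φ, rfl⟩ : ∃ φ : A →+* A', ‹Algebra A A'› = φ.toAlgebra :=
    ⟨algebraMap A A', Algebra.algebra_ext _ _ fun _ => rfl⟩
  letI : Algebra A A' := φ.toAlgebra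
  rw [td_iff] at h ⊢
  obtain ⟨E, hz, hf, ⟨e⟩⟩ := DRingTor.inD_congr (DRingTorDescent.resBIso C) h
  haveI := ModuleCat.preservesFiniteLimits_extendScalars_of_flat
    (f := φ) ‹Module.Flat A A'›
  haveI : PreservesFiniteColimits (ModuleCat.extendScalars.{u, u, u} φ) := by
    haveI : (ModuleCat.extendScalars.{u, u, u} φ).IsLeftAdjoint :=
      (ModuleCat.extendRestrictScalarsAdj φ).isLeftAdjoint
    infer_instance
  let G := ModuleCat.extendScalars.{u, u, u} φ
  refine ⟨(G.mapHomologicalComplex _).obj E, fun i hi => G.map_isZero (hz i hi), fun i => ?_,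
    ⟨(G.mapDerivedCategoryFactors.app E).symm ≪≫ G.mapDerivedCategory.mapIso e ≪≫
      ((G.mapDerivedCategorySingleFunctor 0).app _) ≪≫
      (DerivedCategory.singleFunctor (ModuleCat.{u} A') 0).mapIso ?_⟩⟩
  · letI : Module A' (A' ⊗[A] (E.X i : Type u)) := TensorProduct.leftModule
    haveI := hf i
    haveI h1 : Module.Flat A' (A' ⊗[A] (E.X i : Type u)) :=
      Module.Flat.baseChange (R := A) (S := A') (M := (E.X i : Type u))
    exact Module.Flat.of_linearEquiv
      (M := A' ⊗[A] (E.X i : Type u))
      { toFun := fun z => z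
        invFun := fun z => z
        left_inv := fun _ => rfl
        right_inv := fun _ => rfl
        map_add' := fun _ _ => rfl
        map_smul' := fun _ _ => rfl }
  · have key : ∀ (r : A') (z : A' ⊗[A] C), r • z = (r ⊗ₜ[A] (1 : C)) * z :=
      fun r z => Algebra.smul_def r z
    exact LinearEquiv.toModuleIso (m₁ := (G.obj (ModuleCat.of A C)).isModule)
      (m₂ := ((ModuleCat.restrictScalars
        (Algebra.TensorProduct.includeLeftRingHom : A' →+* A' ⊗[A] C)).obj
          (ModuleCat.of (A' ⊗[A] C) (A' ⊗[A] C))).isModule)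
      { toFun := fun z => z
        invFun := fun z => z
        left_inv := fun _ => rfl
        right_inv := fun _ => rfl
        map_add' := fun _ _ => rfl
        map_smul' := fun r z => key r z }

/-- Flat base change of tor dimension, along a pushout square. -/
theorem td_of_isPushout {n : ℕ} {A' C' : CommRingCat.{u}} {f : CommRingCat.of A ⟶ CommRingCat.of C}
    {g : CommRingCat.of A ⟶ A'} {g' : CommRingCat.of C ⟶ C'} {f' : A' ⟶ C'}
    (sq : IsPushout g f f' g') (hg : g.hom.Flat) (hf : TD n f.hom) : TD n f'.hom := by
  letI : Algebra A A' := g.hom.toAlgebra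
  letI : Algebra A C := f.hom.toAlgebra
  haveI : Module.Flat A A' := hg
  let e := sq.isoIsPushout _ _ (CommRingCat.isPushout_tensorProduct A A' C)
  have he : f' = CommRingCat.ofHom (Algebra.TensorProduct.includeLeftRingHom : A' →+* A' ⊗[A] C) ≫ e.inv :=
    ((Iso.eq_comp_inv e).2 (IsPushout.inl_isoIsPushout_hom _ _ _ _))
  rw [he]
  exact td_comp_bijective (td_baseChange A' hf) (ConcreteCategory.bijective_of_isIso e.inv)

/-- Setting one variable to zero. -/
lemma td_polynomial (C : Type u) [CommRing C] : TD 1 (Polynomial.constantCoeff : Polynomial C →+* C) := by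
  let P := Polynomial C
  let Q := (ModuleCat.restrictScalars (Polynomial.constantCoeff : P →+* C)).obj (ModuleCat.of C C)
  let g : ModuleCat.of P P ⟶ Q := ModuleCat.ofHom (Y := (Q : Type u))
    { toFun := fun p => (Polynomial.constantCoeff p : C)
      map_add' := fun p q => map_add _ p q
      map_smul' := fun r p => (map_mul (Polynomial.constantCoeff (R := C)) r p :) }
  let f : ModuleCat.of P P ⟶ ModuleCat.of P P :=
    ModuleCat.ofHom (LinearMap.mulLeft P (Polynomial.X : P))
  let S := ShortComplex.mk f g (by
    ext
    show Polynomial.constantCoeff ((Polynomial.X : P) * 1) = (0 : C)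
    simp)
  have hS : S.ShortExact :=
    { exact := (ShortComplex.ShortExact.moduleCat_exact_iff_function_exact _).2 fun p => by
        show Polynomial.constantCoeff p = 0 ↔ p ∈ Set.range fun q : P => Polynomial.X * q
        rw [Polynomial.constantCoeff_apply, ← Polynomial.X_dvd_iff]
        exact ⟨fun ⟨q, hq⟩ => ⟨q, hq.symm⟩, fun ⟨q, hq⟩ => ⟨q, hq.symm⟩⟩
      mono_f := (ModuleCat.mono_iff_injective _).2 fun p q h => by
        have h' : (Polynomial.X : P) * p = Polynomial.X * q := h
        exact Polynomial.isRegular_X.left h'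
      epi_g := (ModuleCat.epi_iff_surjective _).2 fun c =>
        ⟨Polynomial.C (show C from c), (Polynomial.coeff_C_zero : (Polynomial.C (show C from c)).coeff 0 = _)⟩ }
  haveI : Module.Flat P S.X₂ := inferInstanceAs (Module.Flat P P)
  haveI : Module.Flat P S.X₁ := inferInstanceAs (Module.Flat P P)
  exact (DRingTor.torDimLE_succ_iff hS 0).2 ((DRingTor.torDimLE_zero_iff S.X₁).2 inferInstance)

/-- Setting all variables to zero. -/
theorem td_constantCoeff : ∀ (n : ℕ) (C : Type u) [CommRing C],
    TD n (MvPolynomial.constantCoeff : MvPolynomial (Fin n) C →+* C)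
  | 0, C, _ => td_of_flat (RingHom.Flat.of_bijective (by
      have h : (MvPolynomial.constantCoeff : MvPolynomial (Fin 0) C →+* C) =
          (MvPolynomial.isEmptyAlgEquiv C (Fin 0)).toRingEquiv.toRingHom :=
        MvPolynomial.ringHom_ext (fun r => (MvPolynomial.constantCoeff_C _ r).trans
          ((MvPolynomial.isEmptyAlgEquiv C (Fin 0)).commutes r).symm) (fun i => i.elim0)
      rw [h]
      exact (MvPolynomial.isEmptyAlgEquiv C (Fin 0)).bijective))
  | n + 1, C, _ => by
    have h : (MvPolynomial.constantCoeff : MvPolynomial (Fin (n + 1)) C →+* C) =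
        ((MvPolynomial.constantCoeff : MvPolynomial (Fin n) C →+* C).comp
          (Polynomial.constantCoeff : Polynomial (MvPolynomial (Fin n) C) →+* _)).comp
            (MvPolynomial.finSuccEquiv C n).toRingEquiv.toRingHom := by
      refine MvPolynomial.ringHom_ext (fun r => by simp [MvPolynomial.finSuccEquiv_apply]) fun i => ?_
      refine Fin.cases ?_ (fun k => ?_) i <;> simp [MvPolynomial.finSuccEquiv_apply]
    rw [h]
    have h1 := td_bijective_comp (f := (MvPolynomial.finSuccEquiv C n).toRingEquiv.toRingHom)
      (MvPolynomial.finSuccEquiv C n).bijective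
      (td_comp (td_polynomial (MvPolynomial (Fin n) C)) (td_constantCoeff n C))
    rwa [Nat.add_comm 1 n] at h1

/-- Evaluation at a point. -/
theorem td_eval (n : ℕ) (C : Type u) [CommRing C] (v : Fin n → C) :
    TD n (MvPolynomial.eval v) := by
  let σ := MvPolynomial.aeval (R := C) fun i => (MvPolynomial.X i : MvPolynomial (Fin n) C) + MvPolynomial.C (v i)
  let τ := MvPolynomial.aeval (R := C) fun i => (MvPolynomial.X i : MvPolynomial (Fin n) C) - MvPolynomial.C (v i)
  let e : MvPolynomial (Fin n) C ≃ₐ[C] MvPolynomial (Fin n) C :=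
    AlgEquiv.ofAlgHom σ τ (MvPolynomial.algHom_ext fun i => by simp [σ, τ])
      (MvPolynomial.algHom_ext fun i => by simp [σ, τ])
  have h : MvPolynomial.eval v =
      (MvPolynomial.constantCoeff : MvPolynomial (Fin n) C →+* C).comp e.toRingEquiv.toRingHom :=
    MvPolynomial.ringHom_ext (fun r => by simp [e, σ]) (fun i => by simp [e, σ])
  rw [h]
  exact td_bijective_comp e.bijective (td_constantCoeff n C)

/-- The diagonal of a polynomial algebra. -/
theorem diagTD_mvPolynomial (R : Type u) [CommRing R] (n : ℕ) :
    DiagTD R (MvPolynomial (Fin n) R) n := by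
  let P := MvPolynomial (Fin n) R
  let e := MvPolynomial.algebraTensorAlgEquiv (σ := Fin n) R P
  have h : (Algebra.TensorProduct.lmul' R (S := P)).toRingHom =
      (MvPolynomial.eval fun i => (MvPolynomial.X i : P)).comp e.toRingEquiv.toRingHom := by
    refine RingHom.ext fun z => ?_
    induction z using TensorProduct.induction_on with
    | zero => simp
    | add p q hp hq => rw [map_add, map_add, hp, hq]
    | tmul p q =>
      show p * q = MvPolynomial.eval (fun i => (MvPolynomial.X i : P)) (e (p ⊗ₜ q))
      rw [MvPolynomial.algebraTensorAlgEquiv_tmul, MvPolynomial.smul_eval, MvPolynomial.eval_map]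
      exact congrArg (p * ·) (MvPolynomial.eval₂_eta q).symm
  show TD n (Algebra.TensorProduct.lmul' R (S := P)).toRingHom
  rw [h]
  exact td_bijective_comp e.bijective (td_eval n P _)

set_option backward.isDefEq.respectTransparency false in
/-- Diagonals along a flat algebra with flat diagonal. -/
theorem diagTD_trans (R P B : Type u) [CommRing R] [CommRing P] [CommRing B] [Algebra R P]
    [Algebra R B] [Algebra P B] [IsScalarTower R P B] [Module.Flat P B] {n : ℕ}
    (h : (Algebra.TensorProduct.lmul' P (S := B)).Flat) (hP : DiagTD R P n) : DiagTD R B n := by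
  have hg : (Algebra.TensorProduct.map (IsScalarTower.toAlgHom R P B)
      (IsScalarTower.toAlgHom R P B)).Flat :=
    RingHom.Flat.tensorProductMap (RingHom.flat_algebraMap_iff.2 inferInstance)
      (RingHom.flat_algebraMap_iff.2 inferInstance)
  have sq : IsPushout
      (CommRingCat.ofHom (Algebra.TensorProduct.map (IsScalarTower.toAlgHom R P B)
        (IsScalarTower.toAlgHom R P B)).toRingHom)
      (CommRingCat.ofHom (Algebra.TensorProduct.lmul' R (S := P)).toRingHom)
      (CommRingCat.ofHom (Algebra.TensorProduct.mapOfCompatibleSMul P R B B B).toRingHom)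
      (CommRingCat.ofHom (RingHom.comp (Algebra.TensorProduct.includeLeft (S := R)).toRingHom
        (algebraMap P B) : P →+* B ⊗[P] B)) := by
    refine .of_iso
      (isPushout_map_codiagonal (CommRingCat.ofHom <| algebraMap P B)
        (CommRingCat.ofHom <| algebraMap P B) (CommRingCat.ofHom <| algebraMap R P))
      ?_ ?_ (.refl _) ?_ ?_ ?_ ?_ ?_
    · exact (CommRingCat.isPushout_tensorProduct R P P).isoPushout.symm
    · exact pushout.congrHom (by simp [IsScalarTower.algebraMap_eq R P B])
          (by simp [IsScalarTower.algebraMap_eq R P B]) ≪≫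
        (CommRingCat.isPushout_tensorProduct R B B).isoPushout.symm
    · exact (CommRingCat.isPushout_tensorProduct P B B).isoPushout.symm
    all_goals ext <;> simp
  have h1 := td_of_isPushout sq hg hP
  have h2 : (Algebra.TensorProduct.lmul' R (S := B)).toRingHom =
      (Algebra.TensorProduct.lmul' P (S := B)).toRingHom.comp
        (Algebra.TensorProduct.mapOfCompatibleSMul P R B B B).toRingHom := by
    refine RingHom.ext fun z => ?_
    induction z using TensorProduct.induction_on with
    | zero => simp
    | add p q hp hq => rw [map_add, map_add, hp, hq]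
    | tmul p q => simp
  show TD n (Algebra.TensorProduct.lmul' R (S := B)).toRingHom
  rw [h2]
  exact td_comp h1 (td_of_flat h)

/-- The diagonal of a localization of a standard smooth algebra of relative dimension `n`. -/
theorem diagTD_localization (R B B' : Type u) [CommRing R] [CommRing B] [CommRing B'] [Algebra R B]
    [Algebra R B'] [Algebra B B'] [IsScalarTower R B B'] (M : Submonoid B) [IsLocalization M B']
    (n : ℕ) [Algebra.IsStandardSmoothOfRelativeDimension n R B] : DiagTD R B' n := by
  obtain ⟨g, hg⟩ := Algebra.IsStandardSmoothOfRelativeDimension.exists_etale_mvPolynomial n R B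
  letI : Algebra (MvPolynomial (Fin n) R) B := g.toRingHom.toAlgebra
  haveI : IsScalarTower R (MvPolynomial (Fin n) R) B :=
    IsScalarTower.of_algebraMap_eq fun r => (g.commutes r).symm
  haveI : Algebra.Etale (MvPolynomial (Fin n) R) B := hg
  have hB : DiagTD R B n := diagTD_trans R (MvPolynomial (Fin n) R) B
    (Algebra.WeaklyEtale.flat_lmul' (MvPolynomial (Fin n) R) B) (diagTD_mvPolynomial R n)
  haveI : Module.Flat B B' := IsLocalization.flat B' M
  exact diagTD_trans R B B'
    (RingHom.Flat.of_bijective (IsLocalization.bijective_linearMap_mul' (S := M) (A := B'))) hB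

end Groth.Agent.KSix54.SmoothTor
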