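import Groth.Agent.KSix54.SmoothTor.Twist
import Groth.Agent.H9Misc.DRingTorDescent
import Mathlib.RingTheory.TensorProduct.Basic

/-! Tor amplitude over a flat algebra whose diagonal has bounded tor dimension. -/

set_option linter.style.haveILetI false

universe u

open CategoryTheory CategoryTheory.Limits MonoidalCategory
open scoped TensorProduct

attribute [local instance] HasDerivedCategory.standard

namespace Groth.Agent.KSix54.SmoothTor

open Groth.Agent.H9Misc Groth.Agent.H9Misc.DRingLTensor Groth.Agent.KFlatLib

variable (R B : Type u) [CommRing R] [CommRing B] [Algebra R B]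

/-- The diagonal of `B` over `R` has tor dimension `≤ n`. -/
def DiagTD (n : ℕ) : Prop :=
  DRing.HasTorDimLE (B ⊗[R] B) n
    ((ModuleCat.restrictScalars (Algebra.TensorProduct.lmul' R (S := B)).toRingHom).obj (ModuleCat.of B B))

/-- The left inclusion. -/
abbrev lR : B →+* B ⊗[R] B := (Algebra.TensorProduct.includeLeft : B →ₐ[R] B ⊗[R] B).toRingHom

/-- The right inclusion. -/
abbrev rR : B →+* B ⊗[R] B := (Algebra.TensorProduct.includeRight : B →ₐ[R] B ⊗[R] B).toRingHom

variable (M : Type u) [AddCommGroup M] [Module B M] [Module R M] [IsScalarTower R B M]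

/-- The action of `B ⊗_R B` on `B ⊗_R M`. -/
noncomputable def diagAct : B ⊗[R] B →+* Module.End R (B ⊗[R] M) :=
  ((Module.endTensorEndAlgHom (R := R) (S := R) (A := R) (M := B) (N := M)).comp
    (Algebra.TensorProduct.map (Algebra.lsmul R R B) (Algebra.lsmul R R M))).toRingHom

/-- `B ⊗_R M` with the action of `B ⊗_R B`. -/
noncomputable def diagMod : ModuleCat.{u} (B ⊗[R] B) :=
  letI : Module (B ⊗[R] B) (B ⊗[R] M) := Module.compHom _ (diagAct R B M)
  ModuleCat.of (B ⊗[R] B) (B ⊗[R] M)

/-- An element of `B ⊗_R M` in the twisted module. -/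
noncomputable def diagEl : (B ⊗[R] M) ≃+ (diagMod R B M : Type u) := AddEquiv.refl _

lemma diag_smul (c c' b : B) (m : M) :
    (c ⊗ₜ[R] c') • diagEl R B M (b ⊗ₜ[R] m) = diagEl R B M ((c * b) ⊗ₜ[R] (c' • m)) := rfl

/-- The comparison. -/
noncomputable def diagTo :
    (ModuleCat.extendScalars (rR R B)).obj (ModuleCat.of B M) ⟶ diagMod R B M :=
  ((ModuleCat.extendRestrictScalarsAdj (rR R B)).homEquiv _ _).symm
    (ModuleCat.ofHom (Y := ((ModuleCat.restrictScalars (rR R B)).obj (diagMod R B M) : Type u))
      { toFun := fun m => diagEl R B M ((1 : B) ⊗ₜ[R] m)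
        map_add' := fun m m' => by
          show diagEl R B M (1 ⊗ₜ[R] (m + m')) = _
          rw [TensorProduct.tmul_add, map_add]
          rfl
        map_smul' := fun c m => by
          show _ = ((1 : B) ⊗ₜ[R] c) • diagEl R B M (1 ⊗ₜ[R] m)
          rw [diag_smul, one_mul] })

/-- The image of an element in the extended module. -/
noncomputable def ηr (m : M) : ((ModuleCat.extendScalars (rR R B)).obj (ModuleCat.of B M) : Type u) :=
  (ModuleCat.extendRestrictScalarsAdj (rR R B)).unit.app (ModuleCat.of B M) m

omit [Module R M] [IsScalarTower R B M] in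
lemma ηr_add (m m' : M) : ηr R B M (m + m') = ηr R B M m + ηr R B M m' :=
  map_add ((ModuleCat.extendRestrictScalarsAdj (rR R B)).unit.app (ModuleCat.of B M)).hom m m'

omit [Module R M] [IsScalarTower R B M] in
lemma ηr_smul (c : B) (m : M) : ηr R B M (c • m) = ((1 : B) ⊗ₜ[R] c : B ⊗[R] B) • ηr R B M m :=
  map_smul ((ModuleCat.extendRestrictScalarsAdj (rR R B)).unit.app (ModuleCat.of B M)).hom c m

lemma diagTo_ηr (m : M) : diagTo R B M (ηr R B M m) = diagEl R B M (1 ⊗ₜ[R] m) :=
  congrArg (fun f => f.hom m) (((ModuleCat.extendRestrictScalarsAdj (rR R B)).homEquiv_unit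
    (f := diagTo R B M)).symm.trans (((ModuleCat.extendRestrictScalarsAdj (rR R B)).homEquiv _ _).apply_symm_apply _))

/-- The inverse comparison, additively. -/
noncomputable def diagInv : (B ⊗[R] M) →+ ((ModuleCat.extendScalars (rR R B)).obj (ModuleCat.of B M) : Type u) :=
  TensorProduct.liftAddHom
    (AddMonoidHom.mk' (fun b => AddMonoidHom.mk' (fun m => (b ⊗ₜ[R] (1 : B) : B ⊗[R] B) • ηr R B M m)
      fun m m' => by rw [ηr_add, smul_add])
      fun b b' => AddMonoidHom.ext fun m => by
        show ((b + b') ⊗ₜ[R] (1 : B) : B ⊗[R] B) • ηr R B M m = _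
        rw [TensorProduct.add_tmul, add_smul]
        rfl)
    fun x b m => by
      show ((x • b) ⊗ₜ[R] (1 : B) : B ⊗[R] B) • ηr R B M m = (b ⊗ₜ[R] (1 : B) : B ⊗[R] B) • ηr R B M (x • m)
      rw [← algebraMap_smul B x m, ηr_smul, smul_smul, Algebra.TensorProduct.tmul_mul_tmul, mul_one,
        one_mul, Algebra.algebraMap_eq_smul_one, ← TensorProduct.smul_tmul]

lemma diagInv_tmul (b : B) (m : M) :
    diagInv R B M (b ⊗ₜ[R] m) = (b ⊗ₜ[R] (1 : B) : B ⊗[R] B) • ηr R B M m := rfl

/-- The inverse comparison. -/
noncomputable def diagFrom :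
    diagMod R B M ⟶ (ModuleCat.extendScalars (rR R B)).obj (ModuleCat.of B M) :=
  ModuleCat.ofHom (X := (diagMod R B M : Type u))
    (Y := ((ModuleCat.extendScalars (rR R B)).obj (ModuleCat.of B M) : Type u))
    { toFun := fun z => diagInv R B M ((diagEl R B M).symm z)
      map_add' := fun z z' => by rw [map_add, map_add]
      map_smul' := fun t z => by
        obtain ⟨z, rfl⟩ := (diagEl R B M).surjective z
        induction t using TensorProduct.induction_on with
        | zero =>
          simp only [RingHom.id_apply]
          erw [zero_smul, zero_smul, map_zero]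
        | add p q hp hq =>
          simp only [RingHom.id_apply] at hp hq ⊢
          erw [add_smul, add_smul, map_add]
          exact congrArg₂ (· + ·) hp hq
        | tmul c c' =>
          induction z using TensorProduct.induction_on with
          | zero =>
            simp only [RingHom.id_apply]
            erw [map_zero (diagEl R B M), smul_zero, map_zero (diagInv R B M)]
          | add p q hp hq =>
            simp only [RingHom.id_apply, AddEquiv.symm_apply_apply] at hp hq ⊢
            erw [map_add (diagEl R B M), smul_add, map_add (diagInv R B M), map_add (diagInv R B M),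
              smul_add]
            exact congrArg₂ (· + ·) hp hq
          | tmul b m =>
            simp only [RingHom.id_apply]
            erw [diag_smul, diagInv_tmul, diagInv_tmul, ηr_smul, smul_smul, smul_smul,
              Algebra.TensorProduct.tmul_mul_tmul, Algebra.TensorProduct.tmul_mul_tmul, mul_one,
              one_mul, mul_one] }

/-- `(B ⊗_R B) ⊗_{B, right} M` is `B ⊗_R M`. -/
noncomputable def diagIso :
    (ModuleCat.extendScalars (rR R B)).obj (ModuleCat.of B M) ≅ diagMod R B M where
  hom := diagTo R B M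
  inv := diagFrom R B M
  hom_inv_id := ((ModuleCat.extendRestrictScalarsAdj (rR R B)).homEquiv _ _).injective (by
    refine ModuleCat.hom_ext (LinearMap.ext fun m => ?_)
    rw [Adjunction.homEquiv_unit, Adjunction.homEquiv_unit]
    show diagFrom R B M (diagTo R B M (ηr R B M m)) = ηr R B M m
    rw [diagTo_ηr]
    show diagInv R B M ((1 : B) ⊗ₜ[R] m) = _
    rw [diagInv_tmul, ← Algebra.TensorProduct.one_def, one_smul])
  inv_hom_id := by
    ext z
    obtain ⟨z, rfl⟩ := (diagEl R B M).surjective z
    induction z using TensorProduct.induction_on with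
    | zero => simp
    | add p q hp hq => rw [map_add, map_add, hp, hq, map_add]
    | tmul b m =>
      show (diagTo R B M).hom ((b ⊗ₜ[R] (1 : B) : B ⊗[R] B) • ηr R B M m) = _
      rw [map_smul, diagTo_ηr, diag_smul, mul_one, one_smul]
      rfl

/-- With the left action, `(B ⊗_R B) ⊗_{B, right} M` is `B ⊗_R M`. -/
noncomputable def diagExtIso :
    (ModuleCat.restrictScalars (lR R B)).obj ((ModuleCat.extendScalars (rR R B)).obj (ModuleCat.of B M)) ≅
      ModuleCat.of B (B ⊗[R] M) :=
  (ModuleCat.restrictScalars (lR R B)).mapIso (diagIso R B M) ≪≫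
    LinearEquiv.toModuleIso
      (m₁ := ((ModuleCat.restrictScalars (lR R B)).obj (diagMod R B M)).isModule)
      { toFun := fun z => (diagEl R B M).symm z
        invFun := fun z => diagEl R B M z
        left_inv := fun _ => rfl
        right_inv := fun _ => rfl
        map_add' := fun _ _ => rfl
        map_smul' := fun c z => by
          obtain ⟨z, rfl⟩ := (diagEl R B M).surjective z
          show (diagEl R B M).symm ((c ⊗ₜ[R] (1 : B) : B ⊗[R] B) • diagEl R B M z) = c • z
          induction z using TensorProduct.induction_on with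
          | zero => simp
          | add p q hp hq => rw [map_add, smul_add, map_add, hp, hq, smul_add]
          | tmul b m => rw [diag_smul, one_smul, AddEquiv.symm_apply_apply]; rfl }

end Groth.Agent.KSix54.SmoothTor

namespace Groth.Agent.KSix54.SmoothTor

open Groth.Agent.H9Misc Groth.Agent.H9Misc.DRingLTensor Groth.Agent.KFlatLib

variable {R B : Type u} [CommRing R] [CommRing B]

/-- Twisting an extended module by a fixed one. -/
noncomputable def extLeftIso {A : Type u} [CommRing A] (l : B →+* A) (L : ModuleCat.{u} A) :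
    ModuleCat.extendScalars l ⋙ tensorRight L ⋙ ModuleCat.restrictScalars l ≅
      tensorRight ((ModuleCat.restrictScalars l).obj L) :=
  Functor.isoWhiskerLeft (ModuleCat.extendScalars l)
      (Functor.isoWhiskerRight (BraidedCategory.tensorLeftIsoTensorRight L).symm _) ≪≫
    ((extTIso l).app L) ≪≫
    BraidedCategory.tensorLeftIsoTensorRight _

/-- **Amplitude drop**: tor amplitude `[a, b]` over the base gives `[a - n, b]` over a flat algebra
with diagonal of tor dimension `≤ n`. -/
theorem hasTorAmplitudeIn_drop (φ : R →+* B) (hφ : φ.Flat) (n : ℕ)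
    (hd : @DiagTD R B _ _ φ.toAlgebra n) (K : DRing.Cx B) (a b : ℤ)
    (hK : DRing.HasTorAmplitudeIn R a b
      (DRing.toD (((ModuleCat.restrictScalars φ).mapHomologicalComplex (ComplexShape.up ℤ)).obj K))) :
    DRing.HasTorAmplitudeIn B (a - n) b (DRing.toD K) := by
  letI : Algebra R B := φ.toAlgebra
  haveI : Module.Flat R B := hφ
  let res := (ModuleCat.restrictScalars φ).mapHomologicalComplex (ComplexShape.up ℤ)
  have hhom : ∀ i, b < i → IsZero (K.homology i) := fun i hi => by
    obtain ⟨E, hz, -, ⟨e⟩⟩ := hK
    obtain ⟨eH⟩ := DRingTor.hd_iso e i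
    have h1 : IsZero ((res.obj K).homology i) :=
      ((ShortComplex.isZero_homology_of_isZero_X₂ _ (hz i (Or.inr hi))).of_iso eH).of_iso
        ((DerivedCategory.homologyFunctorFactors _ i).app _).symm
    rw [← HomologicalComplex.exactAt_iff_isZero_homology] at h1 ⊢
    exact (ShortComplex.exact_map_iff_of_faithful _ (ModuleCat.restrictScalars φ)).1 h1
  obtain ⟨P, ψ, hψ, hflat, hb⟩ := (ringCover B).exists_bounded_resolution K b hhom
  haveI := hψ
  haveI : IsIso (DerivedCategory.Q.map ψ) :=
    (DerivedCategory.isIso_Q_map_iff_quasiIso _ _).2 inferInstance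
  have hflatR : DRing.TermwiseFlat (res.obj P) := fun i => by
    letI : Module R (P.X i) := Module.compHom _ φ
    haveI : IsScalarTower R B (P.X i) := IsScalarTower.of_algebraMap_smul fun _ _ => rfl
    haveI : Module.Flat B (P.X i) := hflat i
    exact (Module.Flat.trans R B (P.X i) : Module.Flat R (P.X i))
  haveI : QuasiIso (res.map ψ) := by constructor; intro i; infer_instance
  haveI : IsIso (DerivedCategory.Q.map (res.map ψ)) :=
    (DerivedCategory.isIso_Q_map_iff_quasiIso _ _).2 inferInstance
  have hV : DRingTor.Van a b (res.obj P) := (DRingTor.iff_van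
    (DRingTor.isKF_of_flat hflatR fun i hi => (ModuleCat.restrictScalars φ).map_isZero (hb i hi))
    (asIso (DerivedCategory.Q.map (res.map ψ)))).1 hK
  refine DRingTor.hasTorAmplitudeIn_of_van (DRingTor.isKF_of_flat hflat fun i hi => hb i hi)
    (fun M i hi => ?_) (asIso (DerivedCategory.Q.map ψ))
  rcases hi with hi | hi
  swap
  · exact (HomologicalComplex.exactAt_iff_isZero_homology _ i).2
      (ShortComplex.isZero_homology_of_isZero_X₂ _ ((tensorRight M).map_isZero (hb i hi)))
  letI : Module R M := Module.compHom M φ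
  haveI : IsScalarTower R B M := IsScalarTower.of_algebraMap_smul fun _ _ => rfl
  let Φ := (extC' (lR R B)).obj P
  have hΦ : DRing.TermwiseFlat Φ := fun j => by
    letI : Algebra B (B ⊗[R] B) := (lR R B).toAlgebra
    haveI : Module.Flat B (P.X j) := hflat j
    exact Module.Flat.baseChange (R := B) (S := B ⊗[R] B) (M := (P.X j : Type u))
  have hr : (rR R B).Flat := by
    have h1 : (algebraMap B (B ⊗[R] B)).Flat := RingHom.flat_algebraMap_iff.2 inferInstance
    have h2 : rR R B =
        (Algebra.TensorProduct.comm R B B).toRingEquiv.toRingHom.comp (algebraMap B (B ⊗[R] B)) :=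
      RingHom.ext fun c => (Algebra.TensorProduct.comm_tmul _ c 1).symm
    rw [h2]
    exact RingHom.Flat.comp h1 (RingHom.Flat.of_bijective (Algebra.TensorProduct.comm R B B).bijective)
  let Q := (ModuleCat.extendScalars (rR R B)).obj (ModuleCat.of B M)
  have h0 : ∀ j, j < a → ((tensC Q).obj Φ).ExactAt j := fun j hj => by
    have h2 : ((tensC ((ModuleCat.extendScalars φ).obj ((ModuleCat.restrictScalars φ).obj M))).obj P).ExactAt j := by
      refine (ShortComplex.exact_map_iff_of_faithful _ (ModuleCat.restrictScalars φ)).1 ?_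
      exact DRingRightExact.exactAt_iso_map (extTwistIso φ ((ModuleCat.restrictScalars φ).obj M)).symm P j
        (hV ((ModuleCat.restrictScalars φ).obj M) j (Or.inl hj))
    refine (ShortComplex.exact_map_iff_of_faithful _ (ModuleCat.restrictScalars (lR R B))).1 ?_
    exact DRingRightExact.exactAt_iso_map
      ((curriedTensor (ModuleCat.{u} B)).flip.mapIso (diagExtIso R B M).symm ≪≫
        (extLeftIso (lR R B) Q).symm) P j h2
  have hNB : Module.Flat B ((ModuleCat.restrictScalars (rR R B)).obj
      ((ModuleCat.restrictScalars (Algebra.TensorProduct.lmul' R (S := B)).toRingHom).obj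
        (ModuleCat.of B B))) :=
    Module.Flat.of_linearEquiv (M := B)
      ({ toFun := fun z => z
         invFun := fun z => z
         left_inv := fun _ => rfl
         right_inv := fun _ => rfl
         map_add' := fun _ _ => rfl
         map_smul' := fun c z => by
           show (Algebra.TensorProduct.lmul' R (S := B)) ((1 : B) ⊗ₜ[R] c) * (show B from z) = c * (show B from z)
           rw [Algebra.TensorProduct.lmul'_apply_tmul, one_mul] } :
        ((ModuleCat.restrictScalars (rR R B)).obj
          ((ModuleCat.restrictScalars (Algebra.TensorProduct.lmul' R (S := B)).toRingHom).obj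
            (ModuleCat.of B B)) : Type u) ≃ₗ[B] B)
  have hX := exactAt_twist (rR R B) hr hΦ (ModuleCat.of B M) h0 n _ hd hNB i (by omega)
  let m := (Algebra.TensorProduct.lmul' R (S := B)).toRingHom
  have hml : m.comp (lR R B) = RingHom.id B := RingHom.ext fun c =>
    (Algebra.TensorProduct.lmul'_apply_tmul c (1 : B)).trans (mul_one c)
  have hmr : m.comp (rR R B) = RingHom.id B := RingHom.ext fun c =>
    (Algebra.TensorProduct.lmul'_apply_tmul (1 : B) c).trans (one_mul c)
  let N := (ModuleCat.restrictScalars m).obj (ModuleCat.of B B)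
  let eM : (ModuleCat.restrictScalars (lR R B)).obj (N ⊗ Q) ≅ M :=
    (ModuleCat.restrictScalars (lR R B)).mapIso (((extendRestrictIso m).app Q).symm ≪≫
      (ModuleCat.restrictScalars m).mapIso
        ((((ModuleCat.extendScalarsComp (rR R B) m).symm ≪≫ eqToIso (by rw [hmr]) ≪≫
          ModuleCat.extendScalarsId B).app (ModuleCat.of B M)))) ≪≫
      ((ModuleCat.restrictScalarsComp' (lR R B) m _ rfl).symm ≪≫
        ModuleCat.restrictScalarsId' _ hml).app M
  exact DRingRightExact.exactAt_iso_map
    (extLeftIso (lR R B) (N ⊗ Q) ≪≫ (curriedTensor (ModuleCat.{u} B)).flip.mapIso eM) P i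
    (ShortComplex.Exact.map hX (ModuleCat.restrictScalars (lR R B)))

end Groth.Agent.KSix54.SmoothTor
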