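import Groth.Agent.KSix54.SmoothTor.Apply
import Groth.Agent.KSix54.Rel.Perfect
import Groth.Agent.KFlatLib.Scheme.EvalPerfect
import Groth.Agent.KFlatLib.Perfect.Corollaries

/-! Relative finite tor dimension and perfectness via a smooth ambient scheme. -/

set_option linter.style.haveILetI false

universe u

open CategoryTheory CategoryTheory.Limits AlgebraicGeometry
open Groth.Agent.KFlatLib

attribute [local instance] HasDerivedCategory.standard

namespace Groth.Agent.KSix54.SmoothTor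

open Groth.Agent.H9Misc

variable {X Z Y : Scheme.{u}} (i : X ⟶ Z) [IsClosedImmersion i] (g : Z ⟶ Y) [Smooth g]

/-- Tor amplitude over the open subscheme. -/
lemma torAmplitudeAt_id_restrict (W : Z.Opens) {G : CochainComplex Z.Modules ℤ} {a b : ℤ} (w : W)
    (h : DerSch.HasTorAmplitudeAt (𝟙 Z) a b G (W.ι.base w)) :
    DerSch.HasTorAmplitudeAt (𝟙 (W : Scheme.{u})) a b ((rCx W.ι).obj G) w := by
  have h1 := torAmplitudeAt_congr_hom (Category.comp_id W.ι)
    ((torAmplitudeAt_restrict_iff W.ι (𝟙 Z) a b G w).2 h)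
  simpa using torAmplitudeAt_id_drop W.ι 0 w h1

/-- Locally finite relative tor amplitude is locally finite tor dimension of the direct image. -/
theorem locFiniteTorAmplitude_iff (F : CochainComplex X.Modules ℤ) :
    DerSch.LocFiniteTorAmplitude (i ≫ g) F ↔
      DCoh.LocHasFiniteTorDim (DCoh.toD Z (pushCx i F)) := by
  constructor
  · intro h z
    obtain ⟨W, a, b, hz, -, hW⟩ := exists_nhd_torAmplitude_push i g h z
    refine ⟨W, a, b, hz, fun F' ⟨e⟩ => ?_⟩
    obtain ⟨E, hE, hf, ⟨eE⟩⟩ := flatAmplitude_of_torAmplitude_id ((rCx W.ι).obj (pushCx i F))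
      (fun w => torAmplitudeAt_id_restrict W w (hW (W.ι.base w) w.2) :
        DerSch.HasTorAmplitude (𝟙 (W : Scheme.{u})) a b _)
    exact ⟨E, hE, hf, ⟨eE ≪≫ (restrictQIso W.ι e).symm⟩⟩
  · intro h x
    obtain ⟨V, a, b, hx, hV⟩ := h (i.base x)
    refine ⟨i ⁻¹ᵁ V, a, b, hx, fun x' hx' => torAmplitudeAt_closed_flat i g ?_⟩
    exact torAmplitudeAt_id_of_local V.ι (hV _ ⟨Iso.refl _⟩) ⟨i.base x', hx'⟩

/-- Relative pseudo-coherence is pseudo-coherence of the direct image. -/
lemma locPC_push {F : CochainComplex X.Modules ℤ}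
    (h : DerSch.IsPseudoCoherentRelAll (i ≫ g) (DCoh.toD X F)) (m : ℤ) :
    LocPC m (DCoh.toD Z (pushCx i F)) :=
  LocPC.of_iso ((pushQ i).app F)
    ((isPseudoCoherentRel_comp_closed_iff i g (fun t => isNPseudoCoherent_flat g t) _).1 (h m))

theorem isPerfectRel_iff_push (F : CochainComplex X.Modules ℤ) :
    DerSch.IsPerfectRel (i ≫ g) F ↔ DCoh.IsPerfect (DCoh.toD Z (pushCx i F)) :=
  ⟨fun h => (isPerfect_iff _).2 (locSP_of_locPC_finTor (locPC_push i g h.1)
    ((locFiniteTorAmplitude_iff i g F).1 h.2)), fun h => isPerfectRel_of_push i g h⟩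

/-- Perfect amplitude in an empty range. -/
lemma perfectAmplitude_of_flat_empty {K : DCoh.D Z} {a b : ℤ} (hab : b < a)
    (h : DCoh.HasFlatAmplitudeIn a b K) : KSix.HasPerfectAmplitudeIn a b K := by
  obtain ⟨E, hv, -, ⟨e⟩⟩ := h
  intro z
  refine ⟨⊤, trivial, fun F ⟨eF⟩ => ⟨(rCx (⊤ : Z.Opens).ι).obj E,
    fun i hi => (Scheme.Modules.restrictFunctor _).map_isZero (hv i hi),
    fun i => isFinLocFree_of_isZero ((Scheme.Modules.restrictFunctor _).map_isZero (hv i (by omega))),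
    ⟨restrictQIso (⊤ : Z.Opens).ι (eF ≪≫ e.symm)⟩⟩⟩

end Groth.Agent.KSix54.SmoothTor
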