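import Groth.Agent.KSix54.SmoothTor.Diag
import Groth.Agent.KSix54.Basic
import Mathlib.AlgebraicGeometry.Morphisms.Smooth
import Mathlib.AlgebraicGeometry.Morphisms.Flat

/-! Tor amplitude over the local ring of a smooth scheme. -/

set_option linter.style.haveILetI false

universe u

open CategoryTheory CategoryTheory.Limits AlgebraicGeometry

attribute [local instance] HasDerivedCategory.standard

namespace Groth.Agent.KSix54.SmoothTor

open Groth.Agent.H9Misc

variable {Z Y : Scheme.{u}}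

/-- Restricting scalars along a flat ring map preserves tor amplitude. -/
lemma amp_restrict_flat {R S : Type u} [CommRing R] [CommRing S] (ρ : R →+* S) (hρ : ρ.Flat)
    {K : DRing.Cx S} {a b : ℤ} (h : DRing.HasTorAmplitudeIn S a b (DRing.toD K)) :
    DRing.HasTorAmplitudeIn R a b
      (DRing.toD (((ModuleCat.restrictScalars ρ).mapHomologicalComplex (ComplexShape.up ℤ)).obj K)) := by
  obtain ⟨E, hz, hf, ⟨e⟩⟩ := h
  let F := ModuleCat.restrictScalars.{u} ρ
  refine ⟨(F.mapHomologicalComplex _).obj E, fun i hi => F.map_isZero (hz i hi), fun i => ?_,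
    ⟨(F.mapDerivedCategoryFactors.app E).symm ≪≫ F.mapDerivedCategory.mapIso e ≪≫
      F.mapDerivedCategoryFactors.app K⟩⟩
  letI : Algebra R S := ρ.toAlgebra
  haveI : Module.Flat R S := hρ
  letI : Module R (E.X i) := Module.compHom _ ρ
  haveI : IsScalarTower R S (E.X i) := IsScalarTower.of_algebraMap_smul fun _ _ => rfl
  haveI := hf i
  exact (Module.Flat.trans R S (E.X i) : Module.Flat R (E.X i))

/-- Amplitude drop at a point of a standard smooth chart. -/
theorem torAmplitudeAt_id_drop_chart (g : Z ⟶ Y) [Flat g] (n : ℕ) {U : Y.Opens} (hU : IsAffineOpen U)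
    {V : Z.Opens} (hV : IsAffineOpen V) (e : V ≤ g ⁻¹ᵁ U)
    (hs : RingHom.IsStandardSmoothOfRelativeDimension n (g.appLE U V e).hom)
    {G : CochainComplex Z.Modules ℤ} {a b : ℤ} (z : Z) (hz : z ∈ V)
    (h : DerSch.HasTorAmplitudeAt g a b G z) :
    DerSch.HasTorAmplitudeAt (𝟙 Z) (a - n) b G z := by
  let R := Γ(Y, U)
  let B := Γ(Z, V)
  let B' := Z.presheaf.stalk z
  let α : (R : Type u) →+* (B : Type u) := (g.appLE U V e).hom
  let β : (B : Type u) →+* (B' : Type u) := (Z.presheaf.germ V z hz).hom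
  let ρ : (R : Type u) →+* (Y.presheaf.stalk (g.base z) : Type u) := (Y.presheaf.germ U (g.base z) (e hz)).hom
  let φ : (R : Type u) →+* (B' : Type u) := β.comp α
  have hcomp : φ = (g.stalkMap z).hom.comp ρ := by
    refine congrArg CommRingCat.Hom.hom (show g.appLE U V e ≫ Z.presheaf.germ V z hz =
      Y.presheaf.germ U (g.base z) (e hz) ≫ g.stalkMap z from ?_)
    exact ((Category.assoc _ _ _).trans (congrArg (g.app U ≫ ·) (Z.presheaf.germ_res (homOfLE e) z hz))).trans
      (g.germ_stalkMap U z (e hz)).symm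
  letI : Algebra R B := α.toAlgebra
  letI : Algebra B B' := β.toAlgebra
  letI : Algebra R B' := φ.toAlgebra
  haveI : IsScalarTower R B B' := IsScalarTower.of_algebraMap_eq fun _ => rfl
  haveI : IsLocalization.AtPrime B' (hV.primeIdealOf ⟨z, hz⟩).asIdeal := hV.isLocalization_stalk ⟨z, hz⟩
  haveI : Algebra.IsStandardSmoothOfRelativeDimension n R B := hs
  have hα : α.Flat := HasRingHomProperty.appLE @Flat g inferInstance ⟨U, hU⟩ ⟨V, hV⟩ e
  have hβ : β.Flat := IsLocalization.flat B' (hV.primeIdealOf ⟨z, hz⟩).asIdeal.primeCompl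
  have hρ : ρ.Flat := by
    letI : Algebra R (Y.presheaf.stalk (g.base z)) := ρ.toAlgebra
    haveI : IsLocalization.AtPrime (Y.presheaf.stalk (g.base z)) (hU.primeIdealOf ⟨g.base z, e hz⟩).asIdeal :=
      hU.isLocalization_stalk ⟨g.base z, e hz⟩
    exact IsLocalization.flat (Y.presheaf.stalk (g.base z)) (hU.primeIdealOf ⟨g.base z, e hz⟩).asIdeal.primeCompl
  have hd : DiagTD R B' n :=
    diagTD_localization R B B' (hV.primeIdealOf ⟨z, hz⟩).asIdeal.primeCompl n
  rw [torAmplitudeAt_id_iff]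
  refine hasTorAmplitudeIn_drop φ (RingHom.Flat.comp hα hβ) n hd _ a b ?_
  refine DRingTor.of_iso (DerivedCategory.Q.mapIso
    (HomologicalComplex.Hom.isoOfComponents
      (fun i => ((ModuleCat.restrictScalarsComp' ρ (g.stalkMap z).hom φ hcomp).app _).symm)
      (fun i j _ => ((ModuleCat.restrictScalarsComp' ρ (g.stalkMap z).hom φ hcomp).inv.naturality
        ((DerSch.stalkFunctor Z z).map (G.d i j))).symm)))
    (amp_restrict_flat ρ hρ h)

/-- **Amplitude drop at a point of a smooth scheme.** -/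
theorem torAmplitudeAt_id_drop (g : Z ⟶ Y) (n : ℕ) [SmoothOfRelativeDimension n g]
    {G : CochainComplex Z.Modules ℤ} {a b : ℤ} (z : Z) (h : DerSch.HasTorAmplitudeAt g a b G z) :
    DerSch.HasTorAmplitudeAt (𝟙 Z) (a - n) b G z := by
  haveI : Smooth g := SmoothOfRelativeDimension.smooth n g
  obtain ⟨U, hU, V, hV, hz, e, hs⟩ :=
    SmoothOfRelativeDimension.exists_isStandardSmoothOfRelativeDimension (n := n) (f := g) z
  exact torAmplitudeAt_id_drop_chart g n hU hV e hs z hz h

/-- A smooth morphism has a standard smooth chart of some relative dimension at every point. -/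
theorem exists_chart (g : Z ⟶ Y) [Smooth g] (z : Z) :
    ∃ (U : Y.Opens) (_ : IsAffineOpen U) (V : Z.Opens) (_ : IsAffineOpen V) (_ : z ∈ V)
      (e : V ≤ g ⁻¹ᵁ U) (n : ℕ), RingHom.IsStandardSmoothOfRelativeDimension n (g.appLE U V e).hom := by
  obtain ⟨U, hU, V, hV, hz, e, hs⟩ := Smooth.exists_isStandardSmooth g z
  obtain ⟨ι, σ, _, _, ⟨P⟩⟩ := hs
  letI := (g.appLE U V e).hom.toAlgebra
  exact ⟨U, hU, V, hV, hz, e, _, ⟨_, _, _, ‹_›, P, rfl⟩⟩

end Groth.Agent.KSix54.SmoothTor
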