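import Groth.Agent.H9Misc.DRingTor
import Groth.Agent.H9Misc.DRingTorBelow
import Groth.Agent.H9Misc.DRingTorDim
import Groth.Agent.H9Misc.KFlatRows
import Groth.Agent.KFlatLib.BaseChange
import Mathlib.Algebra.Homology.HomologicalComplexAbelian
import Mathlib.Algebra.Homology.HomologySequence

/-! Vanishing below for twisted tensor products along a module of bounded tor dimension. -/

set_option linter.style.haveILetI false

universe u

open CategoryTheory CategoryTheory.Limits MonoidalCategory

attribute [local instance] HasDerivedCategory.standard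

namespace Groth.Agent.KSix54.SmoothTor

open Groth.Agent.H9Misc Groth.Agent.H9Misc.DRingLTensor Groth.Agent.KFlatLib

variable {A B : Type u} [CommRing A] [CommRing B] (r : B →+* A)

/-- Twisting by an extended module. -/
noncomputable def extTwistIso (M : ModuleCat.{u} B) :
    tensorRight ((ModuleCat.extendScalars r).obj M) ⋙ ModuleCat.restrictScalars r ≅
      ModuleCat.restrictScalars r ⋙ tensorRight M :=
  NatIso.ofComponents (fun L => ((extTIso r).app L).app M) fun {_ _} g =>
    congrArg (fun t : NatTrans _ _ => t.app M) ((extTIso r).hom.naturality g)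

/-- A short exact sequence with a quotient flat over `B` stays exact after twisting. -/
lemma shortExact_twist {S : ShortComplex (ModuleCat.{u} A)} (hS : S.ShortExact)
    (h₃ : Module.Flat B ((ModuleCat.restrictScalars r).obj S.X₃)) (M : ModuleCat.{u} B) :
    (S.map (tensorRight ((ModuleCat.extendScalars r).obj M))).ShortExact := by
  haveI := h₃
  have h1 : ((S.map (ModuleCat.restrictScalars r)).map (tensorRight M)).ShortExact := by
    haveI : Module.Flat B (S.map (ModuleCat.restrictScalars r)).X₃ := h₃
    exact ShortComplex.shortExact_of_iso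
      (S₁ := (S.map (ModuleCat.restrictScalars r)).map ((curriedTensor (ModuleCat.{u} B)).obj M))
      ((S.map (ModuleCat.restrictScalars r)).mapNatIso (BraidedCategory.tensorLeftIsoTensorRight M))
      (KFlatRows.shortExact_tensorLeft (hS.map_of_exact (ModuleCat.restrictScalars r)) M)
  have h2 : ((S.map (tensorRight ((ModuleCat.extendScalars r).obj M))).map
      (ModuleCat.restrictScalars r)).ShortExact :=
    ShortComplex.shortExact_of_iso (S.mapNatIso (extTwistIso r M)).symm h1
  haveI := h2.mono_f
  haveI := h2.epi_g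
  haveI : (S.map (tensorRight ((ModuleCat.extendScalars r).obj M))).HasHomology :=
    CategoryWithHomology.hasHomology _
  exact { exact := (ShortComplex.exact_map_iff_of_faithful _ (ModuleCat.restrictScalars r)).1 h2.exact
          mono_f := (ModuleCat.restrictScalars r).mono_of_mono_map h2.mono_f
          epi_g := (ModuleCat.restrictScalars r).epi_of_epi_map h2.epi_g }

/-- Tensoring a complex with a map of modules. -/
noncomputable def tensMap (Φ : DRing.Cx A) {N N' : ModuleCat.{u} A} (g : N ⟶ N') :
    (tensC N).obj Φ ⟶ (tensC N').obj Φ where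
  f i := Φ.X i ◁ g
  comm' i j _ := whisker_exchange (Φ.d i j) g

/-- Tensoring a short exact sequence with a flat complex. -/
lemma exists_shortExact_tensC {Φ : DRing.Cx A} (hΦ : DRing.TermwiseFlat Φ)
    {S : ShortComplex (ModuleCat.{u} A)} (hS : S.ShortExact) :
    ∃ T : ShortComplex (DRing.Cx A), T.ShortExact ∧ T.X₁ = (tensC S.X₁).obj Φ ∧
      T.X₂ = (tensC S.X₂).obj Φ ∧ T.X₃ = (tensC S.X₃).obj Φ := by
  refine ⟨ShortComplex.mk (tensMap Φ S.f) (tensMap Φ S.g) ?_,
    HomologicalComplex.shortExact_of_degreewise_shortExact _ fun i => ?_, rfl, rfl, rfl⟩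
  · ext i : 1
    change Φ.X i ◁ S.f ≫ Φ.X i ◁ S.g = 0
    rw [← whiskerLeft_comp, S.zero]
    exact MonoidalPreadditive.whiskerLeft_zero
  haveI := hΦ i
  exact
    { exact := (ShortComplex.ShortExact.moduleCat_exact_iff_function_exact _).2
        (Module.Flat.lTensor_exact (Φ.X i)
          ((ShortComplex.ShortExact.moduleCat_exact_iff_function_exact _).1 hS.exact))
      mono_f := (ModuleCat.mono_iff_injective _).2 (Module.Flat.lTensor_preserves_injective_linearMap _
        ((ModuleCat.mono_iff_injective _).1 hS.mono_f))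
      epi_g := (ModuleCat.epi_iff_surjective _).2 (LinearMap.lTensor_surjective _
        ((ModuleCat.epi_iff_surjective _).1 hS.epi_g)) }

/-- Twisting by a module of tor dimension `≤ n` which is flat over `B` costs `n` degrees below. -/
theorem exactAt_twist (hr : r.Flat) {Φ : DRing.Cx A} (hΦ : DRing.TermwiseFlat Φ) (M : ModuleCat.{u} B)
    {a : ℤ} (h0 : ∀ i, i < a → ((tensC ((ModuleCat.extendScalars r).obj M)).obj Φ).ExactAt i) :
    ∀ (n : ℕ) (N : ModuleCat.{u} A), DRing.HasTorDimLE A n N →
      Module.Flat B ((ModuleCat.restrictScalars r).obj N) →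
      ∀ i, i < a - n → ((tensC (N ⊗ (ModuleCat.extendScalars r).obj M)).obj Φ).ExactAt i := by
  intro n
  induction n with
  | zero =>
    intro N hN _ i hi
    haveI : Module.Flat A N := (DRingTor.torDimLE_zero_iff N).1 hN
    let e : tensorRight (N ⊗ (ModuleCat.extendScalars r).obj M) ≅
        tensorRight ((ModuleCat.extendScalars r).obj M) ⋙ tensorRight N :=
      (curriedTensor (ModuleCat.{u} A)).flip.mapIso (β_ N ((ModuleCat.extendScalars r).obj M)) ≪≫
        tensorRightTensor ((ModuleCat.extendScalars r).obj M) N
    refine DRingRightExact.exactAt_iso_map e.symm Φ i ?_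
    exact ShortComplex.Exact.map (h0 i (by omega)) (tensorRight N)
  | succ n ih =>
    intro N hN hNB i hi
    obtain ⟨S, hS, rfl, hP⟩ := DRingTor.exists_ses N
    haveI : Module.Flat A S.X₂ := inferInstance
    haveI h2B : Module.Flat B ((ModuleCat.restrictScalars r).obj S.X₂) := by
      letI : Algebra B A := r.toAlgebra
      haveI : Module.Flat B A := hr
      letI : Module B S.X₂ := Module.compHom _ r
      haveI : IsScalarTower B A S.X₂ := IsScalarTower.of_algebraMap_smul fun _ _ => rfl
      exact (Module.Flat.trans B A S.X₂ : Module.Flat B S.X₂)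
    have h1B : Module.Flat B ((ModuleCat.restrictScalars r).obj S.X₁) := by
      haveI : Module.Flat B (S.map (ModuleCat.restrictScalars r)).X₂ := h2B
      haveI : Module.Flat B (S.map (ModuleCat.restrictScalars r)).X₃ := hNB
      exact DRingTorBelow.flat_X₁ (hS.map_of_exact (ModuleCat.restrictScalars r))
    obtain ⟨T, hT, h₁, h₂, h₃⟩ := exists_shortExact_tensC hΦ (shortExact_twist r hS hNB M)
    have e₁ : T.X₁.ExactAt (i + 1) := by
      rw [h₁]
      exact ih S.X₁ ((DRingTor.torDimLE_succ_iff hS n).1 hN) h1B (i + 1) (by omega)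
    have e₂ : T.X₂.ExactAt i := by
      rw [h₂]
      have h2 : DRing.HasTorDimLE A n S.X₂ := fun Q _ _ p hp =>
        ((DRingTor.torDimLE_zero_iff S.X₂).2 inferInstance) Q p (by omega)
      exact ih S.X₂ h2 h2B i (by omega)
    have e₃ : T.X₃.ExactAt i := by
      rw [HomologicalComplex.exactAt_iff_isZero_homology] at e₁ e₂ ⊢
      exact (hT.homology_exact₃ i (i + 1) rfl).isZero_X₂ (e₂.eq_of_src _ _) (e₁.eq_of_tgt _ _)
    rw [h₃] at e₃
    exact e₃

end Groth.Agent.KSix54.SmoothTor
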